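import Mathlib

/-!
# A ring complete along a non-zero-divisor with split reduction is a power series ring
-/

set_option autoImplicit false
universe u

open PowerSeries

namespace Groth.CompleteLine

variable {k A B : Type u} [CommRing k] [CommRing A] [CommRing B] [Algebra k A] [Algebra k B]
  (s : B →ₐ[k] A) (x : A)

/-- Evaluation of truncations. -/
noncomputable def part (n : ℕ) (f : PowerSeries B) : A := (trunc n f).eval₂ s.toRingHom x

theorem eval_sub_trunc_mem (p : Polynomial B) (n : ℕ) :
    p.eval₂ s.toRingHom x - part s x n (p : PowerSeries B) ∈ Ideal.span {x} ^ n := by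
  obtain ⟨q, hq⟩ : Polynomial.X ^ n ∣ p - trunc n (p : PowerSeries B) := by
    rw [Polynomial.X_pow_dvd_iff]
    intro d hd
    rw [Polynomial.coeff_sub, coeff_trunc, if_pos hd, Polynomial.coeff_coe, sub_self]
  rw [part, ← Polynomial.eval₂_sub, hq, Polynomial.eval₂_mul, Polynomial.eval₂_X_pow]
  exact Ideal.mul_mem_right _ _ (Ideal.pow_mem_pow (Ideal.mem_span_singleton_self x) n)

theorem part_add (n : ℕ) (f g : PowerSeries B) : part s x n (f + g) = part s x n f + part s x n g := by
  simp [part, Polynomial.eval₂_add]

theorem part_mul (n : ℕ) (f g : PowerSeries B) :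
    part s x n f * part s x n g - part s x n (f * g) ∈ Ideal.span {x} ^ n := by
  have h := eval_sub_trunc_mem s x (trunc n f * trunc n g) n
  rw [Polynomial.eval₂_mul, Polynomial.coe_mul] at h
  rwa [show part s x n ((trunc n f : PowerSeries B) * (trunc n g : PowerSeries B)) = part s x n (f * g) by
    simp only [part, trunc_trunc_mul_trunc]] at h

theorem part_sub_mem {m n : ℕ} (h : m ≤ n) (f : PowerSeries B) :
    part s x n f - part s x m f ∈ Ideal.span {x} ^ m := by
  have h' := eval_sub_trunc_mem s x (trunc n f) m
  rwa [show part s x m ((trunc n f : Polynomial B) : PowerSeries B) = part s x m f by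
    unfold part
    congr 1
    ext d
    simp only [coeff_trunc, Polynomial.coeff_coe]
    split_ifs <;> first | rfl | omega] at h'

theorem part_C (n : ℕ) (hn : 0 < n) (b : B) : part s x n (C b) = s b := by
  obtain ⟨m, rfl⟩ : ∃ m, n = m + 1 := ⟨n - 1, by omega⟩
  rw [part, trunc_C, Polynomial.eval₂_C]
  rfl

theorem part_X (n : ℕ) : part s x (n + 2) X = x := by
  rw [part, trunc_X, Polynomial.eval₂_X]

variable [IsAdicComplete (Ideal.span {x}) A]

theorem eq_of_mem_pow {a b : A} (h : ∀ n, a - b ∈ Ideal.span {x} ^ n) : a = b :=
  sub_eq_zero.1 (IsHausdorff.haus' (I := Ideal.span {x}) (a - b) fun n => by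
    rw [SModEq.zero, smul_eq_mul, Ideal.mul_top]; exact h n)

theorem exists_lim (f : PowerSeries B) : ∃ L : A, ∀ n, part s x n f - L ∈ Ideal.span {x} ^ n := by
  obtain ⟨L, hL⟩ := IsPrecomplete.prec' (I := Ideal.span {x}) (fun n => part s x n f) fun {m n} h => by
    rw [SModEq.sub_mem, smul_eq_mul, Ideal.mul_top, ← neg_sub]
    exact neg_mem (part_sub_mem s x h f)
  refine ⟨L, fun n => ?_⟩
  have := hL n
  rwa [SModEq.sub_mem, smul_eq_mul, Ideal.mul_top] at this

/-- The sum of a power series. -/
noncomputable def lim (f : PowerSeries B) : A := (exists_lim s x f).choose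

theorem lim_spec (f : PowerSeries B) (n : ℕ) : part s x n f - lim s x f ∈ Ideal.span {x} ^ n :=
  (exists_lim s x f).choose_spec n

theorem lim_eq (f : PowerSeries B) (a : A) (h : ∀ n, part s x (n + 2) f - a ∈ Ideal.span {x} ^ n) : lim s x f = a :=
  eq_of_mem_pow x fun n => by
    have h1 := Ideal.pow_le_pow_right (show n ≤ n + 2 by omega) (lim_spec s x f (n + 2))
    simpa using sub_mem (h n) h1

/-- The sum as a ring homomorphism. -/
noncomputable def limHom : PowerSeries B →ₐ[k] A where
  toFun := lim s x
  map_one' := lim_eq s x 1 1 fun n => by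
    rw [← map_one (C (R := B)), part_C s x _ (by omega), map_one, sub_self]; exact zero_mem _
  map_zero' := lim_eq s x 0 0 fun n => by simp [part]
  map_add' f g := lim_eq s x _ _ fun n => by
    rw [part_add, add_sub_add_comm]
    exact Ideal.pow_le_pow_right (show n ≤ n + 2 by omega) (add_mem (lim_spec s x f _) (lim_spec s x g _))
  map_mul' f g := lim_eq s x _ _ fun n => by
    refine Ideal.pow_le_pow_right (show n ≤ n + 2 by omega) ?_
    have h1 := part_mul s x (n + 2) f g
    have h2 := Ideal.mul_mem_left _ (part s x (n + 2) f) (lim_spec s x g (n + 2))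
    have h3 := Ideal.mul_mem_right (lim s x g) _ (lim_spec s x f (n + 2))
    convert sub_mem (add_mem h2 h3) h1 using 1
    ring
  commutes' c := lim_eq s x _ _ fun n => by
    rw [PowerSeries.algebraMap_apply, part_C s x _ (by omega), AlgHom.commutes, sub_self]; exact zero_mem _

theorem limHom_X : limHom s x X = x :=
  lim_eq s x X x fun n => by rw [part_X, sub_self]; exact zero_mem _

theorem limHom_C (b : B) : limHom s x (C b) = s b :=
  lim_eq s x _ _ fun n => by rw [part_C s x _ (by omega), sub_self]; exact zero_mem _

theorem mk_limHom (q : A →ₐ[k] B) (hqs : ∀ b, q (s b) = b) (hqx : q x = 0) (f : PowerSeries B) :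
    q (limHom s x f) = constantCoeff f := by
  conv_lhs => rw [eq_X_mul_shift_add_const f]
  rw [map_add, map_mul, limHom_X, limHom_C, map_add, map_mul, hqx, zero_mul, zero_add, hqs]

theorem bijective_limHom (hx : x ∈ nonZeroDivisors A) (q : A →ₐ[k] B) (hqs : ∀ b, q (s b) = b)
    (hker : ∀ a, q a = 0 → x ∣ a) (hqx : q x = 0) : Function.Bijective (limHom s x) := by
  refine ⟨?_, fun a => ?_⟩
  · rw [injective_iff_map_eq_zero]
    have key : ∀ (n : ℕ) (f : PowerSeries B), limHom s x f = 0 → coeff n f = 0 := by
      intro n
      induction n with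
      | zero =>
        intro f hf
        rw [coeff_zero_eq_constantCoeff_apply, ← mk_limHom s x q hqs hqx, hf, map_zero]
      | succ n ih =>
        intro f hf
        have h0 : constantCoeff f = 0 := by rw [← mk_limHom s x q hqs hqx, hf, map_zero]
        have hshift := eq_X_mul_shift_add_const f
        rw [h0, map_zero, add_zero] at hshift
        rw [hshift, map_mul, limHom_X] at hf
        have h2 := ih _ ((mul_right_mem_nonZeroDivisors_eq_zero_iff hx).1 (by rw [mul_comm]; exact hf))
        rwa [coeff_mk] at h2
    exact fun f hf => PowerSeries.ext fun n => by rw [key n f hf, map_zero]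
  · have hdiv : ∀ a : A, ∃ b, a = s (q a) + x * b := fun a => by
      obtain ⟨b, hb⟩ := hker (a - s (q a)) (by rw [map_sub, hqs, sub_self])
      exact ⟨b, by rw [← hb]; ring⟩
    choose next hnext using hdiv
    let seq : ℕ → A := fun n => next^[n] a
    let f : PowerSeries B := mk fun n => q (seq n)
    refine ⟨f, lim_eq s x f a fun n => Ideal.pow_le_pow_right (show n ≤ n + 2 by omega) ?_⟩
    have key : ∀ n, a - part s x n f = x ^ n * seq n := by
      intro n
      induction n with
      | zero => simp [part, seq]
      | succ n ih =>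
        have hs : part s x (n + 1) f = part s x n f + s (q (seq n)) * x ^ n := by
          rw [part, part, trunc_succ, Polynomial.eval₂_add, Polynomial.eval₂_monomial]
          simp [f]
        have hn : seq n = s (q (seq n)) + x * seq (n + 1) := by
          simp only [seq, Function.iterate_succ_apply']
          exact hnext _
        linear_combination (norm := ring_nf) ih - hs + x ^ n * hn
    rw [show part s x (n + 2) f - a = -(x ^ (n + 2) * seq (n + 2)) by rw [← key]; ring]
    exact neg_mem (Ideal.mul_mem_right _ _ (Ideal.pow_mem_pow (Ideal.mem_span_singleton_self x) _))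

end Groth.CompleteLine
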